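import Groth.Prelude.Def_TwC
import Groth.Agent.Unr55.DescProps
import Mathlib.AlgebraicGeometry.ValuativeCriterion
import Mathlib.AlgebraicGeometry.Morphisms.UniversallyOpen

/-!
Twisted constant schemes are separated, etale and satisfy the valuative criterion.
-/

set_option autoImplicit false
set_option linter.style.haveILetI false

universe u

open CategoryTheory Limits AlgebraicGeometry MonoidalCategory CartesianMonoidalCategory

namespace Groth.Agent.TwC99

variable {S : Scheme.{u}} (I : Type u)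

theorem exists_ι (p : (TwC.const S I).left) : ∃ (i : I) (s : S), (Sigma.ι (fun _ : I => S) i).base s = p := by
  obtain ⟨⟨i, s⟩, h⟩ := (sigmaMk (fun _ : I => S)).surjective p
  exact ⟨i, s, by rw [← h]; exact (sigmaMk_mk (fun _ : I => S) i s).symm⟩

theorem etale_const : Etale (TwC.const S I).hom :=
  IsZariskiLocalAtSource.sigmaDesc fun _ => (inferInstance : Etale (𝟙 S))

theorem isSeparated_const : IsSeparated (TwC.const S I).hom := by
  set d := (TwC.const S I).hom with hd
  refine ⟨IsClosedImmersion.of_isPreimmersion _ (isOpen_compl_iff.mp ?_)⟩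
  rw [isOpen_iff_forall_mem_open]
  intro p hp
  obtain ⟨i, a, ha⟩ := exists_ι I ((pullback.fst d d).base p)
  obtain ⟨j, b, hb⟩ := exists_ι I ((pullback.snd d d).base p)
  have hι : ∀ k, Sigma.ι (fun _ : I => S) k ≫ d = 𝟙 S := fun k => Sigma.ι_desc _ _
  have hij : i ≠ j := by
    rintro rfl
    apply hp
    have hab : a = b := by
      have h1 : d.base ((pullback.fst d d).base p) = d.base ((pullback.snd d d).base p) := by
        rw [← Scheme.Hom.comp_apply, ← Scheme.Hom.comp_apply, pullback.condition]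
      rw [← ha, ← hb, ← Scheme.Hom.comp_apply, ← Scheme.Hom.comp_apply, hι] at h1
      exact h1
    subst hab
    let U := (pullback.fst d d) ⁻¹ᵁ (Sigma.ι (fun _ : I => S) i).opensRange ⊓
      (pullback.snd d d) ⁻¹ᵁ (Sigma.ι (fun _ : I => S) i).opensRange
    have hpU : p ∈ U := ⟨⟨a, ha⟩, ⟨a, hb⟩⟩
    let l₁ := IsOpenImmersion.lift (Sigma.ι (fun _ : I => S) i) (U.ι ≫ pullback.fst d d) (by
      rintro _ ⟨x, rfl⟩
      exact x.2.1)
    let l₂ := IsOpenImmersion.lift (Sigma.ι (fun _ : I => S) i) (U.ι ≫ pullback.snd d d) (by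
      rintro _ ⟨x, rfl⟩
      exact x.2.2)
    have h₁ : l₁ ≫ Sigma.ι (fun _ : I => S) i = U.ι ≫ pullback.fst d d := IsOpenImmersion.lift_fac _ _ _
    have h₂ : l₂ ≫ Sigma.ι (fun _ : I => S) i = U.ι ≫ pullback.snd d d := IsOpenImmersion.lift_fac _ _ _
    have hl : l₁ = l₂ := by
      have e1 : l₁ = U.ι ≫ pullback.fst d d ≫ d := by rw [← reassoc_of% h₁, hι, Category.comp_id]
      have e2 : l₂ = U.ι ≫ pullback.snd d d ≫ d := by rw [← reassoc_of% h₂, hι, Category.comp_id]
      rw [e1, e2, pullback.condition]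
    have heq : U.ι = (l₁ ≫ Sigma.ι (fun _ : I => S) i) ≫ pullback.diagonal d := by
      apply pullback.hom_ext
      · rw [Category.assoc _ (pullback.diagonal d), pullback.diagonal_fst, Category.comp_id, h₁]
      · rw [Category.assoc _ (pullback.diagonal d), pullback.diagonal_snd, Category.comp_id, hl, h₂]
    refine ⟨(l₁ ≫ Sigma.ι (fun _ : I => S) i).base ⟨p, hpU⟩, ?_⟩
    rw [← Scheme.Hom.comp_apply, ← heq]
    rfl
  refine ⟨((pullback.fst d d) ⁻¹ᵁ (Sigma.ι (fun _ : I => S) i).opensRange ⊓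
      (pullback.snd d d) ⁻¹ᵁ (Sigma.ι (fun _ : I => S) j).opensRange : TopologicalSpace.Opens _), ?_, TopologicalSpace.Opens.isOpen _, ⟨a, ha⟩, ⟨b, hb⟩⟩
  rintro q ⟨⟨x, hx⟩, ⟨y, hy⟩⟩ ⟨z, rfl⟩
  rw [← Scheme.Hom.comp_apply, pullback.diagonal_fst] at hx
  rw [← Scheme.Hom.comp_apply, pullback.diagonal_snd] at hy
  exact hij (congrArg Sigma.fst ((sigmaι_eq_iff (fun _ : I => S) i j x y).mp (hx.trans hy.symm)))

theorem existence_const : ValuativeCriterion.Existence (TwC.const S I).hom := by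
  rintro ⟨R, K, i₁, i₂, ⟨w⟩⟩
  obtain ⟨i, a, ha⟩ := exists_ι I (i₁.base (IsLocalRing.closedPoint K))
  let g := IsOpenImmersion.lift (Sigma.ι (fun _ : I => S) i) i₁ (by
    rintro _ ⟨x, rfl⟩
    exact ⟨a, ha.trans (congrArg i₁.base (Subsingleton.elim _ x))⟩)
  have hg : g ≫ Sigma.ι (fun _ : I => S) i = i₁ := IsOpenImmersion.lift_fac _ _ _
  have hι : Sigma.ι (fun _ : I => S) i ≫ (TwC.const S I).hom = 𝟙 S := Sigma.ι_desc _ _
  have hg' : g = Spec.map (CommRingCat.ofHom (algebraMap R K)) ≫ i₂ := by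
    rw [← w, ← hg, Category.assoc, hι, Category.comp_id]
  exact ⟨⟨⟨i₂ ≫ Sigma.ι (fun _ : I => S) i, by rw [← Category.assoc, ← hg', hg],
    by rw [Category.assoc, hι, Category.comp_id]⟩⟩⟩

variable {I}

theorem prop_of_iso {P : MorphismProperty Scheme.{u}} [P.RespectsIso] {X : Over S} {S' : Scheme.{u}}
    (f : S' ⟶ S) (e : Red.bc f X ≅ TwC.const S' I) (h : P (TwC.const S' I).hom) : P (pullback.snd X.hom f) := by
  haveI : IsIso e.hom.left := inferInstanceAs (IsIso ((Over.forget _).mapIso e).hom)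
  rw [show pullback.snd X.hom f = e.hom.left ≫ (TwC.const S' I).hom from (Over.w e.hom).symm,
    P.cancel_left_of_respectsIso]
  exact h

theorem exists_affine_cover {X : Over S} (hX : TwC.IsTwConst TwC.Topology.etale X) (s : S) :
    ∃ (V : S.Opens) (W : Scheme.{u}) (g : W ⟶ V) (I : Type u), s ∈ V ∧ Unr55.fpqc g ∧
      IsSeparated (pullback.snd X.hom (g ≫ V.ι)) ∧ Etale (pullback.snd X.hom (g ≫ V.ι)) := by
  obtain ⟨S', f, hf, ⟨s', hs'⟩, I, ⟨e⟩⟩ := hX s
  obtain ⟨U, hU, hsU, -⟩ := exists_isAffineOpen_mem_and_subset (x := s) (U := ⊤) trivial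
  obtain ⟨W₀, hW₀, hsW, hWU⟩ := exists_isAffineOpen_mem_and_subset (x := s') (U := f ⁻¹ᵁ U)
    (show f.base s' ∈ U from hs'.symm ▸ hsU)
  let O : S.Opens := ⟨f.base '' W₀, f.isOpenMap _ W₀.2⟩
  obtain ⟨r, hrO, hsr⟩ := hU.exists_basicOpen_le (V := O) ⟨s, ⟨s', hsW, hs'⟩⟩ hsU
  let V := S.basicOpen r
  let W : S'.Opens := W₀ ⊓ f ⁻¹ᵁ V
  have hWa : IsAffineOpen W := by
    have : W = S'.basicOpen (f.appLE U W₀ hWU r) := by
      rw [Scheme.Hom.appLE, CommRingCat.comp_apply, Scheme.basicOpen_res, ← Scheme.preimage_basicOpen]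
    rw [this]
    exact hW₀.basicOpen _
  let g := f.resLE V W inf_le_right
  haveI : IsAffine W.toScheme := hWa
  haveI : IsAffine V.toScheme := hU.basicOpen r
  haveI : Etale f := hf
  haveI : Surjective g := ⟨fun ⟨v, hv⟩ => by
    obtain ⟨w, hw, hwv⟩ := hrO hv
    refine ⟨⟨w, hw, (show f.base w ∈ V from hwv.symm ▸ hv)⟩, Subtype.ext ?_⟩
    rw [Scheme.Hom.coe_resLE_apply]
    exact hwv⟩
  refine ⟨V, W, g, I, hsr, ⟨⟨inferInstance, inferInstance⟩, inferInstance⟩, ?_⟩
  have hgf : g ≫ V.ι = W.ι ≫ f := Scheme.Hom.resLE_comp_ι _ _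
  have h1 : IsPullback (pullback.lift (pullback.fst X.hom (g ≫ V.ι)) (pullback.snd X.hom (g ≫ V.ι) ≫ W.ι)
      (by rw [pullback.condition, Category.assoc, hgf]) : pullback X.hom (g ≫ V.ι) ⟶ pullback X.hom f)
      (pullback.snd X.hom (g ≫ V.ι)) (pullback.snd X.hom f) W.ι := by
    refine IsPullback.of_right ?_ (pullback.lift_snd _ _ _) (IsPullback.of_hasPullback X.hom f)
    rw [pullback.lift_fst, ← hgf]
    exact IsPullback.of_hasPullback X.hom (g ≫ V.ι)
  exact ⟨MorphismProperty.of_isPullback h1 (prop_of_iso (P := @IsSeparated) f e (isSeparated_const I)),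
    MorphismProperty.of_isPullback h1 (prop_of_iso (P := @Etale) f e (etale_const I))⟩

theorem separated_etale_valuative {X : Over S} (hX : TwC.IsTwConst TwC.Topology.etale X) :
    IsSeparated X.hom ∧ Etale X.hom ∧ ValuativeCriterion X.hom := by
  haveI := Unr55.isSeparated.{u}
  choose V W g I hV hg h1 h2 using exists_affine_cover hX
  have hcov : ⨆ s, V s = ⊤ := top_le_iff.mp fun s _ => TopologicalSpace.Opens.mem_iSup.mpr ⟨s, hV s⟩
  have key : ∀ (P : MorphismProperty Scheme.{u}) [IsZariskiLocalAtTarget P] [P.DescendsAlong Unr55.fpqc],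
      (∀ s, P (pullback.snd X.hom (g s ≫ (V s).ι))) → P X.hom := by
    intro P _ _ h
    rw [IsZariskiLocalAtTarget.iff_of_iSup_eq_top (P := P) V hcov]
    intro s
    have hp : IsPullback (pullback.lift (pullback.fst X.hom (g s ≫ (V s).ι)) (pullback.snd X.hom (g s ≫ (V s).ι) ≫ g s)
        (by rw [pullback.condition, Category.assoc]) : pullback X.hom (g s ≫ (V s).ι) ⟶ pullback X.hom (V s).ι)
        (pullback.snd X.hom (g s ≫ (V s).ι)) (pullback.snd X.hom (V s).ι) (g s) := by
      refine IsPullback.of_right ?_ (pullback.lift_snd _ _ _) (IsPullback.of_hasPullback X.hom (V s).ι)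
      rw [pullback.lift_fst]
      exact IsPullback.of_hasPullback X.hom (g s ≫ (V s).ι)
    refine (P.arrow_mk_iso_iff (morphismRestrictOpensRange X.hom (V s).ι |>.symm.trans (eqToIso (by rw [Scheme.Opens.opensRange_ι])))).mp ?_
    exact MorphismProperty.of_isPullback_of_descendsAlong hp.flip (hg s) (h s)
  have hsep : IsSeparated X.hom := key @IsSeparated h1
  refine ⟨hsep, key @Etale h2, ValuativeCriterion.iff.mpr ⟨?_, IsSeparated.valuativeCriterion X.hom⟩⟩
  rw [ValuativeCriterion.Existence.eq]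
  intro X' T a b π hp x t ht
  obtain ⟨S', f, hf, ⟨s', hs'⟩, J, ⟨e⟩⟩ := hX (b.base t)
  obtain ⟨t₀', ht₀, -⟩ := Scheme.Pullback.exists_preimage_pullback (f := b) (g := f) t s' hs'.symm
  let p := pullback.fst b f
  let X'' := pullback π p
  have hp' : IsPullback (pullback.fst π p ≫ a) (pullback.snd π p) X.hom (pullback.snd b f ≫ f) := by
    rw [← pullback.condition]
    exact (IsPullback.of_hasPullback π p).paste_horiz hp.flip
  let c : X'' ⟶ pullback X.hom f := pullback.lift (pullback.fst π p ≫ a) (pullback.snd π p ≫ pullback.snd b f)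
    (by rw [hp'.w, Category.assoc])
  have hc : IsPullback c (pullback.snd π p) (pullback.snd X.hom f) (pullback.snd b f) := by
    refine IsPullback.of_right ?_ (pullback.lift_snd _ _ _) (IsPullback.of_hasPullback X.hom f)
    rw [pullback.lift_fst]
    exact hp'
  have hex : ValuativeCriterion.Existence (pullback.snd π p) :=
    MorphismProperty.of_isPullback hc (prop_of_iso (P := ValuativeCriterion.Existence) f e (existence_const J))
  haveI : Etale f := hf
  have hgen : GeneralizingMap p.base := Flat.generalizingMap p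
  obtain ⟨t', ht', htx⟩ := hgen (show π.base x ⤳ p.base t₀' from ht₀.symm ▸ ht)
  obtain ⟨x'', hx1, hx2⟩ := Scheme.Pullback.exists_preimage_pullback (f := π) (g := p) x t' htx.symm
  obtain ⟨y, hy, hyt⟩ := (ValuativeCriterion.Existence.specializingMap (f := pullback.snd π p) hex) (show (pullback.snd π p).base x'' ⤳ t₀' from hx2.symm ▸ ht')
  refine ⟨(pullback.fst π p).base y, ?_, ?_⟩
  · rw [← hx1]; exact hy.map (pullback.fst π p).continuous
  · rw [← Scheme.Hom.comp_apply, pullback.condition, Scheme.Hom.comp_apply, hyt, ht₀]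

end Groth.Agent.TwC99
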